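import Mathlib.RingTheory.MvPowerSeries.Basic
import Mathlib.RingTheory.MvPowerSeries.Inverse
import Mathlib.RingTheory.MvPowerSeries.Derivative
import Mathlib.RingTheory.Ideal.Operations
import Mathlib.RingTheory.Nakayama
import Mathlib.RingTheory.LocalRing.MaximalIdeal.Basic
import Mathlib.RingTheory.Jacobson.Ideal

/-!
# The ideal of variables of a power series ring in finitely many variables
-/

namespace Groth.Agent.PSIdeal

open MvPowerSeries

variable {σ : Type*} [Fintype σ] {R : Type*} [CommRing R]

/-- The ideal generated by the variables. -/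
noncomputable def varIdeal (σ R : Type*) [CommRing R] : Ideal (MvPowerSeries σ R) :=
  Ideal.span (Set.range fun i : σ => (X i : MvPowerSeries σ R))

omit [Fintype σ] in
lemma X_mem (i : σ) : (X i : MvPowerSeries σ R) ∈ varIdeal σ R := Ideal.subset_span ⟨i, rfl⟩

/-- A series without constant term is a combination of the variables, with the expected linear parts. -/
lemma exists_eq_sum_X_mul {f : MvPowerSeries σ R} (hf : constantCoeff f = 0) :
    ∃ g : σ → MvPowerSeries σ R, f = ∑ i, X i * g i ∧ ∀ i, constantCoeff (g i) = coeff (Finsupp.single i 1) f := by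
  classical
  let P : (σ →₀ ℕ) → σ → Prop := fun d i => 0 < d i
  let pick : (σ →₀ ℕ) → Option σ := fun d => if h : ∃ i, P d i then some h.choose else none
  let g : σ → MvPowerSeries σ R := fun i d => if pick (d + Finsupp.single i 1) = some i then coeff (d + Finsupp.single i 1) f else 0
  have hg : ∀ i d, coeff d (g i) = if pick (d + Finsupp.single i 1) = some i then coeff (d + Finsupp.single i 1) f else 0 :=
    fun i d => rfl
  refine ⟨g, ?_, fun i => ?_⟩
  · ext d
    rw [map_sum]
    have key : ∀ i, coeff d (X i * g i) = if pick d = some i then coeff d f else 0 := by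
      intro i
      rw [X_def, coeff_monomial_mul]
      by_cases h : Finsupp.single i 1 ≤ d
      · rw [if_pos h, one_mul, hg, tsub_add_cancel_of_le h]
      · rw [if_neg h, if_neg]
        intro hp
        apply h
        simp only [pick] at hp
        split_ifs at hp with hex
        obtain rfl : hex.choose = i := Option.some.inj hp
        exact Finsupp.single_le_iff.mpr hex.choose_spec
    simp_rw [key]
    cases hp : pick d with
    | none =>
      simp only [reduceCtorEq, if_false, Finset.sum_const_zero]
      simp only [pick] at hp
      split_ifs at hp with hex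
      have : d = 0 := Finsupp.ext fun i => by
        simp only [not_exists, P] at hex
        simpa using hex i
      rw [this]; simpa using hf
    | some j => simp
  · rw [← coeff_zero_eq_constantCoeff_apply, hg, zero_add, if_pos]
    simp only [pick]
    have hex : ∃ j, P (Finsupp.single i 1) j := ⟨i, by simp [P]⟩
    rw [dif_pos hex]
    congr 1
    by_contra hne
    have := hex.choose_spec
    generalize hex.choose = j at hne this
    simp only [P, Finsupp.single_eq_of_ne hne, lt_irrefl] at this

lemma mem_varIdeal {f : MvPowerSeries σ R} (hf : constantCoeff f = 0) : f ∈ varIdeal σ R := by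
  obtain ⟨g, rfl, -⟩ := exists_eq_sum_X_mul hf
  exact sum_mem fun i _ => Ideal.mul_mem_right _ _ (X_mem i)

/-- A series without constant and linear terms lies in the square of the ideal of variables. -/
lemma mem_varIdeal_sq {f : MvPowerSeries σ R} (hf : constantCoeff f = 0)
    (hf1 : ∀ i, coeff (Finsupp.single i 1) f = 0) : f ∈ varIdeal σ R ^ 2 := by
  obtain ⟨g, hfg, hg⟩ := exists_eq_sum_X_mul hf
  rw [hfg, pow_two]
  refine sum_mem fun i _ => Ideal.mul_mem_mul (X_mem i) (mem_varIdeal ?_)
  rw [hg, hf1]

/-- A series without terms of degree `< 3` lies in the cube of the ideal of variables. -/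
lemma mem_varIdeal_cube {f : MvPowerSeries σ R} (hf : ∀ d : σ →₀ ℕ, d.degree < 3 → coeff d f = 0) :
    f ∈ varIdeal σ R ^ 3 := by
  classical
  obtain ⟨g, hfg, hg⟩ := exists_eq_sum_X_mul (f := f) (by simpa using hf 0 (by simp))
  let pick : σ → MvPowerSeries σ R := g
  have hsub : ∀ (i : σ) (h : MvPowerSeries σ R) (d : σ →₀ ℕ),
      coeff (d + Finsupp.single i 1) (X i * h) = coeff d h := fun i h d => by
    rw [X_def, add_comm d, coeff_add_monomial_mul, one_mul]
  -- replace `g` by a version without constant and linear terms
  let p : σ → MvPowerSeries σ R := fun i => ∑ j, C (coeff (Finsupp.single j 1) (g i)) * X j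
  have hp0 : ∀ i, constantCoeff (p i) = 0 := fun i => by simp [p]
  have hp1 : ∀ i j, coeff (Finsupp.single j 1) (p i) = coeff (Finsupp.single j 1) (g i) := fun i j => by
    simp [p, coeff_C_mul, coeff_X, Finsupp.single_eq_single_iff]
  have hq : ∀ i, g i - p i ∈ varIdeal σ R ^ 2 := fun i => by
    refine mem_varIdeal_sq ?_ fun j => ?_
    · rw [map_sub, hp0, hg, sub_zero]; exact hf _ (by simp)
    · rw [map_sub, hp1, sub_self]
  have hquad : ∑ i, X i * p i = (0 : MvPowerSeries σ R) := by
    ext d
    have hsum : ∑ i, X i * p i = f - ∑ i, X i * (g i - p i) := by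
      rw [hfg, ← Finset.sum_sub_distrib]; exact Finset.sum_congr rfl fun i _ => by ring
    by_cases hd : d.degree < 3
    · rw [hsum, map_sub, hf d hd, map_zero, map_sum]
      rw [Finset.sum_eq_zero, sub_zero]
      intro i _
      rw [X_def, coeff_monomial_mul]
      split_ifs with h
      · rw [one_mul]
        have hdeg : (d - Finsupp.single i 1).degree < 2 := by
          have := congrArg Finsupp.degree (tsub_add_cancel_of_le h)
          rw [map_add, Finsupp.degree_single] at this
          omega
        generalize d - Finsupp.single i 1 = e at hdeg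
        by_cases he : e = 0
        · subst he; rw [coeff_zero_eq_constantCoeff_apply, map_sub, hp0, hg, sub_zero]; exact hf _ (by simp)
        · obtain ⟨j, hj⟩ : ∃ j, e j ≠ 0 := by
            by_contra hne; push Not at hne; exact he (Finsupp.ext hne)
          have : e = Finsupp.single j 1 := by
            ext l
            have h1 := Finsupp.le_degree j e
            have h2 := Finsupp.le_degree l e
            rcases eq_or_ne l j with rfl | hlj
            · simp; omega
            · rw [Finsupp.single_apply, if_neg (Ne.symm hlj)]
              by_contra hl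
              have hs : ({j, l} : Finset σ).sum e ≤ e.degree := by
                rw [Finsupp.degree_apply]
                refine Finset.sum_le_sum_of_subset ?_
                intro a ha
                simp only [Finset.mem_insert, Finset.mem_singleton] at ha
                rcases ha with rfl | rfl <;> simp [hj, hl]
              rw [Finset.sum_pair hlj.symm] at hs
              omega
          rw [this, map_sub, hp1, sub_self]
      · rfl
    · rw [map_zero, map_sum]
      refine Finset.sum_eq_zero fun i _ => ?_
      simp only [p, Finset.mul_sum, map_sum]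
      refine Finset.sum_eq_zero fun j _ => ?_
      rw [mul_left_comm, coeff_C_mul, X_def, X_def, monomial_mul_monomial, coeff_monomial]
      rw [if_neg, mul_zero]
      intro h; subst h; simp at hd
  have : f = ∑ i, X i * (g i - p i) := by
    rw [hfg, ← sub_zero (∑ i, X i * g i), ← hquad, ← Finset.sum_sub_distrib]
    exact Finset.sum_congr rfl fun i _ => by ring
  rw [this, pow_succ']
  exact sum_mem fun i _ => Ideal.mul_mem_mul (X_mem i) (hq i)

variable {k : Type*} [Field k]

omit [Fintype σ] in
lemma constantCoeff_of_mem {f : MvPowerSeries σ k} (hf : f ∈ varIdeal σ k) : constantCoeff f = 0 := by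
  have : varIdeal σ k ≤ RingHom.ker (constantCoeff : MvPowerSeries σ k →+* k) :=
    Ideal.span_le.mpr fun x ⟨i, hi⟩ => by simp [← hi, RingHom.mem_ker]
  exact this hf

lemma varIdeal_eq_maximalIdeal : varIdeal σ k = IsLocalRing.maximalIdeal (MvPowerSeries σ k) := by
  ext f
  rw [IsLocalRing.mem_maximalIdeal, mem_nonunits_iff, isUnit_iff_constantCoeff, isUnit_iff_ne_zero, not_not]
  exact ⟨constantCoeff_of_mem, mem_varIdeal⟩

lemma varIdeal_le_jacobson : varIdeal σ k ≤ (⊥ : Ideal (MvPowerSeries σ k)).jacobson := by
  rw [varIdeal_eq_maximalIdeal]
  exact IsLocalRing.maximalIdeal_le_jacobson ⊥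

/-- Nakayama: an ideal generated by finitely many series is contained in `J` once it is modulo the variables. -/
lemma le_of_le_sup_varIdeal_mul {I J : Ideal (MvPowerSeries σ k)} (hI : I.FG)
    (h : I ≤ J ⊔ varIdeal σ k * I) : I ≤ J :=
  Submodule.le_of_le_smul_of_le_jacobson_bot hI varIdeal_le_jacobson h

end Groth.Agent.PSIdeal
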